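import Cfsg.Agent.H307.FourOdd.Defs
import Cfsg.Agent.CharactersDeep.ModCongr
import Cfsg.Agent.Blocks.Local
import Cfsg.Agent.Blocks.PPart
import Cfsg.Agent.S4483
import Cfsg.Agent.H618.Sigma
import Cfsg.Agent.Blocks.ExistsModular
import Cfsg.Agent.H921.K4.Uniq_m3
import Cfsg.Agent.FastGrp
import Cfsg.Agent.Prune
set_option linter.all false

section
prune_inst 0x7f00000000000000000000000000000000000000000000000000000000000000000000000000000000000000000000000000000000000000000000000000000000000000000000000000000000000000003fffffffffffffffffffffffffffbeffbdffffffff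

-- part: H601/OddDeg/Block
section
set_option linter.all false
open scoped Cfsg.Agent.FastGrp

/-!
# The two alternatives of S4948 from `TwoC` and `ThreeInv`
-/

set_option autoImplicit false

namespace Cfsg.Agent.H601.OddDeg

open Cfsg Subgroup Cfsg.Agent.Characters.Core Cfsg.Agent.Blocks.Local Cfsg.Agent.Blocks.PPart

variable {S : Type*} [Group S] [Finite S]

/-- In a group with a `2`-subgroup whose centralizer is a `2`-group, the elements whose class has odd size are
`2`-elements. -/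
theorem TwoC.two_element (h : TwoC S) {g : S} (hg : ¬ 2 ∣ (centralizer ({g} : Set S)).index) :
    ∃ k : ℕ, orderOf g = 2 ^ k := by
  have : Fact (Nat.Prime 2) := ⟨Nat.prime_two⟩
  obtain ⟨D, h1, h2⟩ := h
  -- a Sylow 2-subgroup of the centralizer is a Sylow 2-subgroup of `S`
  obtain ⟨Q⟩ : Nonempty (Sylow 2 (centralizer ({g} : Set S))) := inferInstance
  obtain ⟨P, hP⟩ := h1.exists_le_sylow
  set Q' : Subgroup S := (Q : Subgroup (centralizer ({g} : Set S))).map (centralizer ({g} : Set S)).subtype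
  have hQ' : IsPGroup 2 Q' := Q.isPGroup'.map _
  obtain ⟨R, hR⟩ := hQ'.exists_le_sylow
  have hcard : Nat.card Q' = Nat.card R := by
    have e1 : Nat.card Q' = Nat.card Q := by
      exact (Nat.card_congr ((Q : Subgroup (centralizer ({g} : Set S))).equivMapOfInjective _
        (centralizer ({g} : Set S)).subtype_injective).toEquiv).symm
    have e2 : Nat.card R = 2 ^ (Nat.card S).factorization 2 := R.card_eq_multiplicity
    have e3 : Nat.card Q = 2 ^ (Nat.card (centralizer ({g} : Set S))).factorization 2 := Q.card_eq_multiplicity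
    rw [e1, e2, e3]
    congr 1
    rw [← (centralizer ({g} : Set S)).card_mul_index, Nat.factorization_mul Nat.card_pos.ne'
      index_ne_zero_of_finite, Finsupp.add_apply, Nat.factorization_eq_zero_of_not_dvd hg, add_zero]
  have hQR : Q' = R := eq_of_le_of_card_ge hR hcard.ge
  obtain ⟨x, hx⟩ := MulAction.exists_smul_eq S P R
  -- `x g' x⁻¹ = g` with `g'` centralizing `D`
  have h3 : x⁻¹ * g * x ∈ centralizer (D : Set S) := by
    rw [mem_centralizer_iff]
    intro d hd
    have h4 : x * d * x⁻¹ ∈ (R : Subgroup S) := by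
      rw [← hx]
      exact ⟨d, hP hd, rfl⟩
    rw [← hQR] at h4
    obtain ⟨c, -, hc⟩ := h4
    have h5 := mem_centralizer_singleton_iff.1 c.2
    rw [coe_subtype] at hc
    rw [hc] at h5
    calc d * (x⁻¹ * g * x) = x⁻¹ * ((x * d * x⁻¹) * g) * x := by group
      _ = x⁻¹ * (g * (x * d * x⁻¹)) * x := by rw [h5]
      _ = x⁻¹ * g * x * d := by group
  obtain ⟨k, hk⟩ := IsPGroup.iff_orderOf.1 h2 ⟨_, h3⟩
  refine ⟨k, ?_⟩
  rw [← hk, orderOf_mk]
  have := orderOf_injective (MulAut.conj x⁻¹).toMonoidHom (MulAut.conj x⁻¹).injective g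
  simpa using this.symm

/-- If a `2`-subgroup has a `2`-group as its centralizer, all characters of odd degree are in the principal block. -/
theorem TwoC.mem_principalBlock (h : TwoC S) {M : Ideal AlgInt} (hM : IsPModular 2 M) (θ : IrrCharacter S)
    (hθ : ¬ 2 ∣ charDegree (θ : S → ℂ)) : θ ∈ principalBlock M S := by
  have : Fact (Nat.Prime 2) := ⟨Nat.prime_two⟩
  have := isPrime_of_isPModular hM
  intro g
  obtain ⟨n, hn0, hn⟩ := isIrr_apply_one θ.2
  have hdeg : charDegree (θ : S → ℂ) = n := by rw [charDegree, hn]; simp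
  rw [hdeg] at hθ
  have hnC : (n : ℂ) ≠ 0 := by exact_mod_cast hn0.ne'
  have key : centralChar (fun _ : S => (1 : ℂ)) g - centralChar (θ : S → ℂ) g =
      (((centralizer ({g} : Set S)).index : ℂ) * ((θ : S → ℂ) 1 - (θ : S → ℂ) g)) * ((n : ℂ))⁻¹ := by
    unfold centralChar
    rw [hn]
    field_simp
  rw [key]
  refine memLocalIdeal_mul_right ?_ (memLocalRing_inv_natCast hM hθ)
  by_cases hg : 2 ∣ (centralizer ({g} : Set S)).index
  · refine memLocalIdeal_mul_right ((memLocalIdeal_natCast_iff hM _).2 hg) ?_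
    exact memLocalRing_sub (memLocalRing_of_isIntegral (Blocks.Central.isIntegral_irr θ.2 _))
      (memLocalRing_of_isIntegral (Blocks.Central.isIntegral_irr θ.2 _))
  · refine memLocalIdeal_mul_left (memLocalRing_natCast _) ?_
    have h1 := CharactersDeep.ModCongr.memLocalIdeal_character_sub hM θ.2 g g
      (isPPart_of_isPGroup (h.two_element hg))
    rw [inv_mul_cancel] at h1
    exact memLocalIdeal_sub_comm h1

/-- The first alternative. -/
theorem TwoC.result (h : TwoC S) {M : Ideal AlgInt} (hM : IsPModular 2 M) :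
    (∀ θ : IrrCharacter S, ¬ 2 ∣ charDegree (θ : S → ℂ) → θ ∈ principalBlock M S) ∨
      3 ≤ Nat.card {θ : IrrCharacter S // θ ∈ principalBlock M S ∧ ¬ 2 ∣ charDegree (θ : S → ℂ) ∧
        ∀ φ : S ≃* S, ∀ x : S, (θ : S → ℂ) (φ x) = (θ : S → ℂ) x} :=
  Or.inl fun θ hθ => h.mem_principalBlock hM θ hθ

/-- The second alternative. -/
theorem ThreeInv.result (h : ThreeInv S) {M : Ideal AlgInt} (hM : IsPModular 2 M) :
    (∀ θ : IrrCharacter S, ¬ 2 ∣ charDegree (θ : S → ℂ) → θ ∈ principalBlock M S) ∨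
      3 ≤ Nat.card {θ : IrrCharacter S // θ ∈ principalBlock M S ∧ ¬ 2 ∣ charDegree (θ : S → ℂ) ∧
        ∀ φ : S ≃* S, ∀ x : S, (θ : S → ℂ) (φ x) = (θ : S → ℂ) x} := by
  right
  have hfin : Finite (IrrCharacter S) := finite_irr
  obtain ⟨a, b, c, ⟨ha1, ha2, ha3, ha4⟩, ⟨hb1, hb2, hb3, hb4⟩, ⟨hc1, hc2, hc3, hc4⟩, hab, hac, hbc⟩ := h
  let T := {θ : IrrCharacter S // θ ∈ principalBlock M S ∧ ¬ 2 ∣ charDegree (θ : S → ℂ) ∧
        ∀ φ : S ≃* S, ∀ x : S, (θ : S → ℂ) (φ x) = (θ : S → ℂ) x}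
  have mk : ∀ {χ : S → ℂ} (h1 : IsIrrCharacter S χ), (∀ x, (χ x).im = 0) → ¬ 2 ∣ charDegree χ →
      (⟨χ, h1⟩ : IrrCharacter S) ∈ principalBlock M S := by
    intro χ h1 h2 h3
    exact S4483.mem_principal hM ⟨χ, h1⟩ h2 (by
      rw [← Nat.not_even_iff_odd, even_iff_two_dvd]
      exact h3)
  let A : T := ⟨⟨a, ha1⟩, mk ha1 ha2 ha3, ha3, ha4⟩
  let B : T := ⟨⟨b, hb1⟩, mk hb1 hb2 hb3, hb3, hb4⟩
  let C : T := ⟨⟨c, hc1⟩, mk hc1 hc2 hc3, hc3, hc4⟩
  have h1 : A ≠ B := fun h => hab (congrArg (fun t : T => (t.1 : S → ℂ)) h)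
  have h2 : A ≠ C := fun h => hac (congrArg (fun t : T => (t.1 : S → ℂ)) h)
  have h3 : B ≠ C := fun h => hbc (congrArg (fun t : T => (t.1 : S → ℂ)) h)
  have hT : Finite T := Subtype.finite
  classical
  have := Fintype.ofFinite T
  have h4 : ({A, B, C} : Finset T).card = 3 := Finset.card_eq_three.2 ⟨A, B, C, h1, h2, h3, rfl⟩
  show 3 ≤ Nat.card T
  rw [Nat.card_eq_fintype_card, ← h4]
  exact Finset.card_le_univ _

end Cfsg.Agent.H601.OddDeg
end

-- part: H329/K4/SigCol
section
set_option linter.all false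
open scoped Cfsg.Agent.FastGrp

/-!
# New good characters from a column of odd order (helper329)

`S` a finite group of even order in which all characters of odd degree are in the principal 2-block (`TwoC`).
If the sum of the values at `t` (of odd order) of some good characters is an odd integer, there is a further good
character.

* `exists_cube`, `sigFix_of_cube`, `sigFix_of_rat`;
* `exists_new`, `good5_of_four`, `good5_of_finset`.
-/

set_option autoImplicit false

namespace Cfsg.Agent.H329.K4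

open Cfsg Cfsg.Agent.Characters.Core Cfsg.Agent.H601.K4 Cfsg.Agent.H601.OddDeg Cfsg.Agent.H618.Sigma

universe u

variable {S : Type u} [Group S]

theorem exists_cube (S : Type u) [Group S] [Finite S] : ∃ k : ℕ, Cube S k := by
  obtain ⟨a, m, hm, hc⟩ := Nat.exists_eq_two_pow_mul_odd (n := Nat.card S) Nat.card_pos.ne'
  have hcop : (2 ^ a).Coprime m := Nat.Coprime.pow_left a (Nat.coprime_two_left.2 hm)
  obtain ⟨k, hk1, hk2⟩ := Nat.chineseRemainder hcop 3 1
  refine ⟨k, ⟨fun g hg => ?_, fun g hg => ?_⟩⟩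
  · obtain ⟨j, hj⟩ := hg
    have h1 : orderOf g ∣ 2 ^ a := by
      have h2 : orderOf g ∣ 2 ^ a * m := by
        rw [← hc]
        exact orderOf_dvd_natCard g
      refine Nat.Coprime.dvd_of_dvd_mul_right ?_ h2
      rw [hj]
      exact Nat.Coprime.pow_left j (Nat.coprime_two_left.2 hm)
    exact pow_eq_pow_iff_modEq.2 (hk1.of_dvd h1)
  · have h1 : orderOf g ∣ m := by
      have h2 : orderOf g ∣ 2 ^ a * m := by
        rw [← hc]
        exact orderOf_dvd_natCard g
      refine Nat.Coprime.dvd_of_dvd_mul_left ?_ h2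
      exact (Nat.coprime_two_left.2 hg).symm.pow_right a
    have h2 : g ^ k = g ^ 1 := pow_eq_pow_iff_modEq.2 (hk2.of_dvd h1)
    rw [h2, pow_one]

/-- It is enough to consider one exponent. -/
theorem sigFix_of_cube [Finite S] {k : ℕ} (h : Cube S k) {χ : S → ℂ} (hχ : ∀ g, χ (g ^ k) = χ g) : SigFix χ := by
  intro k' h2 h3 g
  obtain ⟨x, y, rfl, hxy, hx, hy⟩ := exists_decomp g
  rw [← hχ (x * y), hxy.mul_pow, hxy.mul_pow, h2 x hx, h3 y hy, h.two x hx, h.odd y hy]

/-- A rational valued irreducible character is fixed. -/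
theorem sigFix_of_rat [Finite S] {χ : S → ℂ} (hχ : IsCharacter S χ) (hq : ∀ g, ∃ q : ℚ, χ g = q) : SigFix χ := by
  refine SigFix.of_pow fun k hk g => ?_
  obtain ⟨σ, hσ⟩ := Cfsg.Agent.Characters.GaloisBasic.exists_ringEquiv_of_coprime hk
  obtain ⟨q, hq⟩ := hq g
  rw [← hσ χ hχ g, hq]
  exact map_ratCast σ q

/-- Automorphisms of the complex numbers which cube the roots of unity of 2-power order and fix those of odd prime
order dividing the group order. -/
theorem sigFix_of_root [Finite S] {χ : S → ℂ} (hχ : IsCharacter S χ)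
    (hval : ∀ τ : ℂ ≃+* ℂ, (∀ p : ℕ, p.Prime → p ≠ 2 → p ∣ Nat.card S → ∀ z : ℂ, z ^ p = 1 → τ z = z) →
      ∀ g, τ (χ g) = χ g) : SigFix χ := by
  intro k h2 h3 g
  have hk : Cube S k := ⟨h2, h3⟩
  obtain ⟨τ, hτ⟩ := Cfsg.Agent.Characters.GaloisBasic.exists_ringEquiv_pow (Nat.card_pos (α := S)).ne' hk.coprime
  rw [← Cfsg.Agent.Characters.GaloisBasic.map_apply_card τ hτ hχ g]
  refine hval τ (fun p hp hp2 hpd z hz => ?_) g
  obtain ⟨m, hm⟩ := hpd
  rw [hτ z (by rw [hm, pow_mul, hz, one_pow])]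
  have := Fact.mk hp
  obtain ⟨x, hx⟩ := exists_prime_orderOf_dvd_card' (G := S) p ⟨m, hm⟩
  have h4 := h3 x (by rw [hx]; exact hp.odd_of_ne_two hp2)
  have h5 : x ^ k = x ^ 1 := by rw [h4, pow_one]
  rw [pow_eq_pow_iff_modEq, hx] at h5
  rw [pow_eq_pow_mod k hz, h5, ← pow_eq_pow_mod 1 hz, pow_one]

/-- Odd degree and fixed: good. -/
theorem good_of [Finite S] (hC : TwoC S) {χ : S → ℂ} (h : OddIrr χ) (hs : SigFix χ) : Good χ :=
  ⟨h, hs, fun _ hM hi => hC.mem_principalBlock hM ⟨χ, hi⟩ h.2⟩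

/-- A rational valued irreducible character of odd degree is good. -/
theorem good_of_rat [Finite S] (hC : TwoC S) {χ : S → ℂ} (h : OddIrr χ) (hq : ∀ g, ∃ q : ℚ, χ g = q) : Good χ :=
  good_of hC h (sigFix_of_rat (isIrr_isCharacter h.1) hq)

theorem oddIrr_one : OddIrr (fun _ : S => (1 : ℂ)) := by
  refine ⟨Cfsg.Agent.Blocks.Basic.isIrrCharacter_one, ?_⟩
  have h1 : charDegree (fun _ : S => (1 : ℂ)) = 1 := by
    apply Cfsg.Agent.Blocks.Basic.charDegree_of_eq
    simp
  rw [h1]
  decide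

theorem good_one [Finite S] (hC : TwoC S) : Good (fun _ : S => (1 : ℂ)) :=
  good_of_rat hC oddIrr_one fun _ => ⟨1, by simp⟩

open Cfsg.Agent.Blocks.Local in
/-- **A further good character**: the values of the known ones at an element of odd order have an odd sum. -/
theorem exists_new [Finite S] (hC : TwoC S) (hev : Even (Nat.card S)) (s : Finset (S → ℂ)) (hs : ∀ χ ∈ s, Good χ)
    {t : S} (ht : Odd (orderOf t)) {n : ℤ} (hn : Odd n) (hsum : ∑ χ ∈ s, χ t = (n : ℂ)) :
    ∃ χ : S → ℂ, Good χ ∧ χ ∉ s := by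
  classical
  by_contra hcon
  push Not at hcon
  obtain ⟨k, hk⟩ := exists_cube S
  obtain ⟨M, hM⟩ := Cfsg.Agent.Blocks.ExistsModular.exists_isPModular Nat.prime_two
  have hMp : M.IsPrime := hM.2.1.isPrime
  have : Finite (IrrCharacter S) := finite_irr
  have := Fintype.ofFinite (OddB M S)
  have h1 := sum_fixed_principal hM hk hev ht
  -- the set of the fixed ones is the given set
  have hint : ∀ χ ∈ s, MemLocalRing M (χ t) := fun χ hχ => memLocalRing_irr ⟨χ, (hs χ hχ).odd.1⟩ t
  have h2 : ∑ χ ∈ s, redC M (χ t) = 0 := by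
    rw [← h1]
    symm
    refine Finset.sum_bij (fun (χ : OddB M S) _ => (χ.1 : S → ℂ)) ?_ ?_ ?_ ?_
    · intro χ hχ
      have h3 := (sigB_eq_iff hk χ).1 (Finset.mem_filter.1 hχ).2
      exact hcon _ (good_of hC ⟨χ.1.2, odd_iff.1 χ.2.2⟩ (sigFix_of_cube hk h3))
    · intro a _ b _ h
      exact Subtype.ext (Subtype.ext h)
    · intro χ hχ
      refine ⟨⟨⟨χ, (hs χ hχ).odd.1⟩, (hs χ hχ).b0 M hM _, odd_iff.2 (hs χ hχ).odd.2⟩, ?_, rfl⟩
      refine Finset.mem_filter.2 ⟨Finset.mem_univ _, (sigB_eq_iff hk _).2 ?_⟩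
      exact (hs χ hχ).sig k hk.two hk.odd
    · intro χ _
      rfl
  have h3 : redC M (∑ χ ∈ s, χ t) = 0 := by
    rw [redC_sum hint]
    exact h2
  rw [hsum, redC_eq_zero_iff (memLocalRing_intCast n), memLocalIdeal_intCast_iff hM] at h3
  exact (Int.not_even_iff_odd.2 hn) (even_iff_two_dvd.2 h3)

/-- Five good characters from a set. -/
theorem good5_of_finset [Finite S] (s : Finset (S → ℂ)) (hs : ∀ χ ∈ s, Good χ) (h5 : 5 ≤ s.card) : Good5 S := by
  obtain ⟨u, hu, hc⟩ := Finset.exists_subset_card_eq h5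
  let e : Fin 5 ≃ u := (Fintype.equivFinOfCardEq (by rw [Fintype.card_coe]; exact hc)).symm
  exact ⟨fun i => (e i : S → ℂ), fun i j h => e.injective (Subtype.ext h), fun i => hs _ (hu (e i).2)⟩

/-- **Five good characters from four** : the trivial one and three which vanish at an element of odd order. -/
theorem good5_of_four [Finite S] (hC : TwoC S) (hev : Even (Nat.card S)) {a b c : S → ℂ} (ha : Good a) (hb : Good b)
    (hc : Good c) (hab : a ≠ b) (hac : a ≠ c) (hbc : b ≠ c) {t : S} (ht : Odd (orderOf t)) (hat : a t = 0)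
    (hbt : b t = 0) (hct : c t = 0) : Good5 S := by
  classical
  have hne : ∀ {χ : S → ℂ}, χ t = 0 → (fun _ : S => (1 : ℂ)) ≠ χ := by
    intro χ h h1
    rw [← h1] at h
    exact one_ne_zero h
  obtain ⟨s, hs⟩ : ∃ s : Finset (S → ℂ), s = {(fun _ : S => (1 : ℂ)), a, b, c} := ⟨_, rfl⟩
  have hmem : ∀ χ ∈ s, Good χ := by
    intro χ h
    rw [hs] at h
    simp only [Finset.mem_insert, Finset.mem_singleton] at h
    rcases h with rfl | rfl | rfl | rfl
    · exact good_one hC
    · exact ha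
    · exact hb
    · exact hc
  have h1 : (fun _ : S => (1 : ℂ)) ∉ ({a, b, c} : Finset (S → ℂ)) := by
    simp only [Finset.mem_insert, Finset.mem_singleton, not_or]
    exact ⟨hne hat, hne hbt, hne hct⟩
  have h2 : a ∉ ({b, c} : Finset (S → ℂ)) := by
    simp only [Finset.mem_insert, Finset.mem_singleton, not_or]
    exact ⟨hab, hac⟩
  have h3 : b ∉ ({c} : Finset (S → ℂ)) := by
    simp only [Finset.mem_singleton]
    exact hbc
  have hsum : ∑ χ ∈ s, χ t = ((1 : ℤ) : ℂ) := by
    rw [hs, Finset.sum_insert h1, Finset.sum_insert h2, Finset.sum_insert h3, Finset.sum_singleton, hat, hbt, hct]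
    simp
  obtain ⟨d, hd, hds⟩ := exists_new hC hev s hmem ht (by decide) hsum
  refine good5_of_finset (insert d s) ?_ ?_
  · intro χ hχ
    rcases Finset.mem_insert.1 hχ with rfl | h
    · exact hd
    · exact hmem χ h
  · rw [Finset.card_insert_of_notMem hds, hs, Finset.card_insert_of_notMem h1, Finset.card_insert_of_notMem h2,
      Finset.card_insert_of_notMem h3, Finset.card_singleton]

/-- transport -/
theorem good5_of_equiv {T : Type*} [Group T] [Finite S] [Finite T] (hC : TwoC S) (e : S ≃* T) (h : Good5 T) :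
    Good5 S := by
  obtain ⟨χ, h1, h2⟩ := h
  refine ⟨fun i x => χ i (e x), fun i j hij => h1 (funext fun t => ?_), fun i => ?_⟩
  · have h3 := congrFun hij (e.symm t)
    simpa using h3
  · refine good_of hC ⟨isIrr_comp e.toMonoidHom e.surjective (h2 i).odd.1, ?_⟩ ?_
    · have h3 : charDegree (fun x => χ i (e x)) = charDegree (χ i) := by
        show ⌊(χ i (e 1)).re⌋₊ = ⌊(χ i 1).re⌋₊
        rw [map_one]
      rw [h3]
      exact (h2 i).odd.2
    · intro k hk2 hk3 g
      show χ i (e (g ^ k)) = χ i (e g)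
      rw [map_pow]
      refine (h2 i).sig k (fun t ht => ?_) (fun t ht => ?_) (e g)
      · have h4 := hk2 (e.symm t) (by rwa [MulEquiv.orderOf_eq])
        have h5 := congrArg e h4
        simpa using h5
      · have h4 := hk3 (e.symm t) (by rwa [MulEquiv.orderOf_eq])
        have h5 := congrArg e h4
        simpa using h5

end Cfsg.Agent.H329.K4
end
end
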